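import Cfsg.Agent.R2.T1.T2p.Final
import Cfsg.Agent.R2.T1.N7.Grp
import Cfsg.Agent.H954.CWarn

/-!
# S5929, `n = 7`, `p = 2`: 3-cycles with 32 fixed weights, every finite field (helper20)

* `Bz` : the bilinear form with `Bz z y y = Mu F y z`;
* `exists_eqMu` : a vector with equal values of the moment map, in a space of dimension at least 3 (Chevalley-Warning);
* `t2_false` : `dim V^{A6} ≥ 5` is impossible.
-/

set_option autoImplicit false
set_option maxRecDepth 100000

namespace Cfsg.Agent.R2.T1.N7T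

open Cfsg Cfsg.Lie Module Equiv Equiv.Perm
open Cfsg.Agent.H943.E7V.Block (D1 rho)
open Cfsg.Agent.H952.F4 (ev es MaxAlt)
open Cfsg.Agent.R2.T1 Cfsg.Agent.R2.T1.Mu2 Cfsg.Agent.R2.T1.T2p Cfsg.Agent.R2.PX
open Cfsg.Agent.R2.T1.Odd
open Cfsg.Agent.R2.T1.N7 (A7 gA6 mem_A6 mul_ap trans1 zero_of)

universe u v

section bil
variable {F : Type u} [Field F]

/-- the bilinear form of the moment map -/
noncomputable def Bz (z : chevE7.Idx → F) : LinearMap.BilinForm F (D1 → F) :=
  Matrix.toBilin' (Matrix.of fun a b => if a < b then (JM F * del F z) a b else 0)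

theorem Bz_self (z : chevE7.Idx → F) (y : D1 → F) : Bz z y y = Mu F y z := by
  unfold Bz
  rw [Matrix.toBilin'_apply, Mu_apply, hq]
  refine Finset.sum_congr rfl fun a _ => Finset.sum_congr rfl fun b _ => ?_
  rw [Matrix.of_apply]
  split_ifs <;> ring

theorem Mu_tr (g : Gh F) (w : D1 → F) (z : chevE7.Idx → F) : Mu F (V F g w) z = Mu F w (L F g⁻¹ z) := by
  rw [Mu_V', LinearMap.comp_apply]

end bil

section key
variable {F : Type u} [Field F] {M : Type v} [AddCommGroup M] [Module F M] [FiniteDimensional F M]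

/-- **a vector with equal values of the moment map** -/
theorem exists_eqMu [Finite F] (h2 : (2 : F) = 0) {x t : Gh F} (hx : x ^ 3 = 1) (h32 : ev (V F x) 1 = 32)
    (P : M →ₗ[F] (D1 → F)) (hP0 : ∀ u, P u + V F x (P u) + V F x (V F x (P u)) = 0)
    (ht2 : t * t = 1) (ht : ∀ u, V F t (P u) = P u) (htx : t * x = x * x * t) (h3 : 3 ≤ finrank F M) :
    ∃ u : M, u ≠ 0 ∧ Mu F (P u) = Mu F (V F x (P u)) := by
  obtain ⟨ω, l, hω, hl⟩ := line_F h2 hx h32
  choose q hq using fun u : M => hl (P u) (hP0 u)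
  have hti : t⁻¹ = t := inv_eq_of_mul_eq_one_left ht2
  have h2K : (2 : AlgebraicClosure F) = 0 := by
    have h := congrArg (algebraMap F (AlgebraicClosure F)) h2
    rwa [map_ofNat, map_zero] at h
  -- the action of `t`
  have t1 : ∀ u, V F t (V F x (P u)) = V F x (V F x (P u)) := by
    intro u
    rw [← V_mul, htx, V_mul, V_mul, ht]
  have t2 : ∀ u, V F t (V F x (V F x (P u))) = V F x (P u) := by
    intro u
    rw [← t1, ← V_mul, ht2, V_one]
  have m0 : ∀ u z, Mu F (P u) (L F t z) = Mu F (P u) z := by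
    intro u z
    have h := Mu_tr t (P u) z
    rw [hti, ht] at h
    exact h.symm
  have m1 : ∀ u z, Mu F (V F x (P u)) (L F t z) = Mu F (V F x (V F x (P u))) z := by
    intro u z
    have h := Mu_tr t (V F x (P u)) z
    rw [hti, t1] at h
    exact h.symm
  have m2 : ∀ u z, Mu F (V F x (V F x (P u))) (L F t z) = Mu F (V F x (P u)) z := by
    intro u z
    have h := Mu_tr t (V F x (V F x (P u))) z
    rw [hti, t2] at h
    exact h.symm
  -- it is enough to find a vector with zero combination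
  suffices hsuff : ∃ u : M, u ≠ 0 ∧ ∀ z, q u * l z = 0 by
    obtain ⟨u, hu0, hu⟩ := hsuff
    refine ⟨u, hu0, LinearMap.ext fun z => ?_⟩
    have e1 := hq u z
    have e2 := hq u (L F t z)
    rw [hu] at e1
    rw [hu, m0, m1, m2] at e2
    exact phi_eq h2K (algebraMap F (AlgebraicClosure F)) hω e1 e2
  by_cases hall : ∀ u z, q u * l z = 0
  · have : Nontrivial M := Module.nontrivial_of_finrank_pos (R := F) (by omega)
    obtain ⟨u, hu⟩ := exists_ne (0 : M)
    exact ⟨u, hu, hall u⟩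
  push Not at hall
  obtain ⟨u1, z1, h11⟩ := hall
  have hq1 : q u1 ≠ 0 := left_ne_zero_of_mul h11
  -- a good point
  obtain ⟨z0, hz0, hbc⟩ : ∃ z0, l z0 ≠ 0 ∧ ∀ u, Mu F (V F x (P u)) z0 = Mu F (V F x (V F x (P u))) z0 := by
    by_cases hE : ∀ u z, Mu F (V F x (P u)) z = Mu F (V F x (V F x (P u))) z
    · exact ⟨z1, right_ne_zero_of_mul h11, fun u => hE u z1⟩
    push Not at hE
    obtain ⟨u2, z2, h22⟩ := hE
    refine ⟨z2 + L F t z2, ?_, ?_⟩
    · intro hl0
      apply h22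
      have a1 := hq u1 z2
      have a2 := hq u1 (L F t z2)
      have a3 := hq u1 (z2 + L F t z2)
      rw [hl0, mul_zero, map_add, map_add, map_add, map_add, map_add, map_add] at a3
      have a4 : q u1 * l z2 + q u1 * l (L F t z2) = 0 := by
        rw [← a1, ← a2, ← a3]; ring
      have a5 : l (L F t z2) = l z2 := by
        have a6 : q u1 * (l (L F t z2) - l z2) = 0 := by linear_combination a4 - (q u1 * l z2) * h2K
        exact sub_eq_zero.1 ((mul_eq_zero.1 a6).resolve_left hq1)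
      have b1 := hq u2 z2
      have b2 := hq u2 (L F t z2)
      rw [a5, ← b1, m0, m1, m2] at b2
      have hω1 : ω - ω ^ 2 ≠ 0 := by
        intro h
        have h4 : ω * (1 - ω) = 0 := by linear_combination h
        rcases mul_eq_zero.1 h4 with h5 | h5
        · rw [h5] at hω
          norm_num at hω
        · have h6 : ω = 1 := (sub_eq_zero.1 h5).symm
          rw [h6] at hω
          have h7 : (1 : AlgebraicClosure F) = 0 := by linear_combination hω - h2K
          exact one_ne_zero h7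
      have b3 : (ω - ω ^ 2) * (algebraMap F (AlgebraicClosure F) (Mu F (V F x (V F x (P u2))) z2) -
          algebraMap F (AlgebraicClosure F) (Mu F (V F x (P u2)) z2)) = 0 := by linear_combination b2
      have b4 := sub_eq_zero.1 ((mul_eq_zero.1 b3).resolve_left hω1)
      exact ((algebraMap F (AlgebraicClosure F)).injective b4).symm
    · intro u
      rw [map_add, map_add, m1, m2]
      exact add_comm _ _
  -- the quadratic equation
  let B : LinearMap.BilinForm F M := (Bz z0).compl₁₂ P P + (Bz z0).compl₁₂ ((V F x).comp P) ((V F x).comp P)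
  obtain ⟨u, hu0, hu⟩ := Cfsg.Agent.H954.CWarn.exists_common_zero (κ := Unit) (fun _ => B) (by
    rw [Fintype.card_unit]; omega)
  have hu' : Mu F (P u) z0 + Mu F (V F x (P u)) z0 = 0 := by
    have h := hu ()
    have e : B u u = Bz z0 (P u) (P u) + Bz z0 (V F x (P u)) (V F x (P u)) := rfl
    rw [e, Bz_self, Bz_self] at h
    exact h
  refine ⟨u, hu0, ?_⟩
  have h := hq u z0
  have h4 : q u * l z0 = 0 := by
    rw [← h, ← hbc]
    have h5 := congrArg (algebraMap F (AlgebraicClosure F)) hu'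
    rw [map_add, map_zero] at h5
    linear_combination h5 + (algebraMap F (AlgebraicClosure F) (Mu F (V F x (P u)) z0)) * hω -
      (algebraMap F (AlgebraicClosure F) (Mu F (V F x (P u)) z0)) * h2K
  have h6 : q u = 0 := (mul_eq_zero.1 h4).resolve_right hz0
  intro z
  rw [h6, zero_mul]

end key

section dim
variable {F : Type u} [Field F] {M : Type v} [AddCommGroup M] [Module F M] [FiniteDimensional F M]

/-- the fixed space of an involution -/
theorem fix_dim (h2 : (2 : F) = 0) (T : M →ₗ[F] M) (hT : ∀ v, T (T v) = v) (U : Submodule F M) (hU : ∀ u ∈ U, T u ∈ U)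
    (h5 : 5 ≤ finrank F ↥U) : 3 ≤ finrank F ↥(U ⊓ LinearMap.ker (T - LinearMap.id)) := by
  have hd : ∀ v : M, v + v = 0 := fun v => by rw [← two_smul F v, h2, zero_smul]
  let N : ↥U →ₗ[F] M := (T - LinearMap.id).comp U.subtype
  have h1 : LinearMap.range N ≤ U ⊓ LinearMap.ker (T - LinearMap.id) := by
    rintro _ ⟨u, rfl⟩
    have e : N u = T u.1 - u.1 := rfl
    refine ⟨?_, ?_⟩
    · rw [e]; exact U.sub_mem (hU _ u.2) u.2
    · rw [SetLike.mem_coe, LinearMap.mem_ker, e, LinearMap.sub_apply, LinearMap.id_apply, map_sub, hT]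
      have h3 : u.1 - T u.1 - (T u.1 - u.1) = (u.1 + u.1) - (T u.1 + T u.1) := by abel
      rw [h3, hd, hd, sub_zero]
  have h3 : (LinearMap.ker N).map U.subtype ≤ U ⊓ LinearMap.ker (T - LinearMap.id) := by
    rintro _ ⟨u, hu, rfl⟩
    exact ⟨u.2, hu⟩
  have h4 := LinearMap.finrank_range_add_finrank_ker N
  have h6 := Submodule.finrank_mono h1
  have h7 := Submodule.finrank_mono h3
  rw [Submodule.finrank_map_subtype_eq] at h7
  omega

end dim

/-! ### the elements -/

/-- `0 → 1 → 2 → 0` -/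
def cx : A7 := ⟨swap 0 1 * swap 1 2, by rw [mem_alternatingGroup]; decide⟩

/-- `(01)(34)` -/
def ct : A7 := ⟨swap 0 1 * swap 3 4, by rw [mem_alternatingGroup]; decide⟩

theorem cx_type : (cx : Perm (Fin 7)).cycleType = {3} := by decide +kernel
theorem cx0 : (cx : Perm (Fin 7)) 0 = 1 := by decide
theorem cx1 : (cx : Perm (Fin 7)) 1 = 2 := by decide
theorem cx2 : (cx : Perm (Fin 7)) 2 = 0 := by decide
theorem ct0 : (ct : Perm (Fin 7)) 0 = 1 := by decide
theorem ct1 : (ct : Perm (Fin 7)) 1 = 0 := by decide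
theorem cx_pow : cx ^ 3 = 1 := by decide +kernel
theorem ct_sq : ct * ct = 1 := by decide +kernel
theorem ct_cx : ct * cx = cx * cx * ct := by decide +kernel

section main
variable {F : Type u} [Field F] {H : Subgroup ↥(chevE7.group F)} {φ : A7 →* ↥(chevE7.group F)} {ψ : A7 →* Gh F}

/-- **3-cycles with 32 fixed weights** -/
theorem t2_false [Finite F] (h2 : (2 : F) = 0) (hM : MaxAlt H 7 φ) (hψ : Lift φ ψ)
    (h32 : ∀ a : A7, (a : Perm (Fin 7)).cycleType = {3} → ev (V F (ψ a)) 1 = 32)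
    (h0 : Representation.invariants (MonoidHom.comp (V F) ψ : Representation F A7 (D1 → F)) = ⊥)
    (h5 : 5 ≤ finrank F ↥(inv (MonoidHom.comp (V F) ψ : Representation F A7 (D1 → F)) (Tg 7 gA6))) : False := by
  let ρ : Representation F A7 (D1 → F) := MonoidHom.comp (V F) ψ
  change Representation.invariants ρ = ⊥ at h0
  set U : Submodule F (D1 → F) := inv ρ (Tg 7 gA6) with hU
  change 5 ≤ finrank F ↥U at h5
  have hρ : ∀ g v, ρ g v = V F (ψ g) v := fun g v => rfl
  obtain ⟨a0, ha0⟩ := trans1 6 0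
  obtain ⟨a1, ha1⟩ := trans1 6 1
  obtain ⟨a2, ha2⟩ := trans1 6 2
  have key : ∀ u ∈ U, ∀ (g a b : A7), (g : Perm (Fin 7)) ((a : Perm (Fin 7)) 6) = (b : Perm (Fin 7)) 6 →
      V F (ψ g) (V F (ψ a) u) = V F (ψ b) u := by
    intro u hu g a b h
    have h1 := Cfsg.Agent.R2.T1.N7.mv (ρ := ρ) hu (g := g * a) (g' := b) (by rw [mul_ap, h])
    rw [hρ, hρ, map_mul, V_mul] at h1
    exact h1
  let P0 : (D1 → F) →ₗ[F] (D1 → F) := V F (ψ a0) + V F (ψ a1)
  have hP : ∀ u, P0 u = V F (ψ a0) u + V F (ψ a1) u := fun u => rfl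
  have px : ∀ u ∈ U, V F (ψ cx) (P0 u) = V F (ψ a1) u + V F (ψ a2) u := by
    intro u hu
    rw [hP, map_add, key u hu cx a0 a1 (by rw [ha0, ha1, cx0]), key u hu cx a1 a2 (by rw [ha1, ha2, cx1])]
  have pxx : ∀ u ∈ U, V F (ψ cx) (V F (ψ cx) (P0 u)) = V F (ψ a2) u + V F (ψ a0) u := by
    intro u hu
    rw [px u hu, map_add, key u hu cx a1 a2 (by rw [ha1, ha2, cx1]), key u hu cx a2 a0 (by rw [ha2, ha0, cx2])]
  have pt : ∀ u ∈ U, V F (ψ ct) (P0 u) = P0 u := by
    intro u hu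
    rw [hP, map_add, key u hu ct a0 a1 (by rw [ha0, ha1, ct0]), key u hu ct a1 a0 (by rw [ha1, ha0, ct1]), add_comm]
  have hd : ∀ v : D1 → F, v + v = 0 := add_self_zero h2
  have p0 : ∀ u ∈ U, P0 u + V F (ψ cx) (P0 u) + V F (ψ cx) (V F (ψ cx) (P0 u)) = 0 := by
    intro u hu
    rw [pxx u hu, px u hu, hP]
    have e : V F (ψ a0) u + V F (ψ a1) u + (V F (ψ a1) u + V F (ψ a2) u) + (V F (ψ a2) u + V F (ψ a0) u) =
        (V F (ψ a0) u + V F (ψ a0) u) + (V F (ψ a1) u + V F (ψ a1) u) + (V F (ψ a2) u + V F (ψ a2) u) := by abel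
    rw [e, hd, hd, zero_add, zero_add, hd]
  have hne : ∀ u ∈ U, P0 u = 0 → u = 0 := by
    intro u hu h
    refine zero_of (ρ := ρ) h0 hu (s := a0) (s' := a1) (by rw [ha0, ha1]; decide) ?_
    rw [hρ, hρ]
    have h1 : V F (ψ a0) u = - V F (ψ a1) u := eq_neg_of_add_eq_zero_left h
    rw [h1]
    exact neg_eq_of_add_eq_zero_left (hd _)
  have h01 : (0 : Fin 7) ≠ 1 := by decide
  have h02 : (0 : Fin 7) ≠ 2 := by decide
  have h12 : (1 : Fin 7) ≠ 2 := by decide
  -- the submodule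
  obtain ⟨M, hMU, hM3, hMH⟩ : ∃ M : Submodule F (D1 → F), M ≤ U ∧ 3 ≤ finrank F ↥M ∧
      ∀ u ∈ M, ∀ g : Gh F, ad F g ∈ H → ∃ π, V F g (P0 u) = V F (ψ π) (P0 u) := by
    rcases exists_t0 h2 le_rfl hM hψ h01 with h | ⟨t0, ht2, ht, hgen⟩
    · refine ⟨U, le_rfl, by omega, fun u _ g hg => ?_⟩
      obtain ⟨π, rfl⟩ := h g hg
      exact ⟨π, rfl⟩
    · have hcs : ∀ a : A7, swap 0 1 * (a : Perm (Fin 7)) * swap 0 1 ∈ alternatingGroup (Fin 7) := by
        intro a
        rw [mem_alternatingGroup, Perm.sign_mul, Perm.sign_mul, mem_alternatingGroup.1 a.2, mul_one, sign_swap h01]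
        decide
      have hss : ∀ a : Perm (Fin 7), swap 0 1 * (swap 0 1 * a * swap 0 1) * swap 0 1 = a := by
        intro a
        have h4 : (swap 0 1 : Perm (Fin 7)) * swap 0 1 = 1 := swap_mul_self _ _
        calc _ = (swap 0 1 * swap 0 1) * a * (swap 0 1 * swap 0 1) := by simp only [mul_assoc]
          _ = a := by rw [h4, one_mul, mul_one]
      have h6s : swap (0 : Fin 7) 1 6 = 6 := by decide
      have hact : ∀ a b : A7, (b : Perm (Fin 7)) = swap 0 1 * (a : Perm (Fin 7)) * swap 0 1 → ∀ w,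
          V F (ψ b) (V F t0 w) = V F t0 (V F (ψ a) w) := by
        intro a b hb w
        rw [← ht a b hb, V_mul, V_mul, ← V_mul t0⁻¹, inv_mul_cancel, V_one]
      have hT : ∀ v, V F t0 (V F t0 v) = v := by
        intro v
        rw [← V_mul, ht2, V_one]
      have hUst : ∀ u ∈ U, V F t0 u ∈ U := by
        intro u hu g hg
        rw [mem_A6] at hg
        have h7 : V F (ψ g) (V F t0 u) = V F t0 (V F (ψ ⟨_, hcs g⟩) u) := hact ⟨_, hcs g⟩ g (hss _).symm u
        have h8 : V F (ψ ⟨_, hcs g⟩) u = u := by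
          refine hu ⟨_, hcs g⟩ (mem_A6.2 ?_)
          show swap 0 1 ((g : Perm (Fin 7)) (swap 0 1 6)) = 6
          rw [h6s, hg, h6s]
        rw [hρ, h7, h8]
      refine ⟨U ⊓ LinearMap.ker (V F t0 - LinearMap.id), inf_le_left, fix_dim h2 (V F t0) hT U hUst h5, ?_⟩
      rintro u ⟨hu, hut⟩ g hg
      have hut' : V F t0 u = u := by
        have h7 : V F t0 u - u = 0 := hut
        exact sub_eq_zero.1 h7
      have hPt : V F t0 (P0 u) = P0 u := by
        have e0 : V F t0 (V F (ψ a0) u) = V F (ψ a1) u := by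
          rw [← hact a0 ⟨_, hcs a0⟩ rfl, hut']
          refine Cfsg.Agent.R2.T1.N7.mv (ρ := ρ) hu ?_
          show swap 0 1 ((a0 : Perm (Fin 7)) (swap 0 1 6)) = (a1 : Perm (Fin 7)) 6
          rw [h6s, ha0, ha1, swap_apply_left]
        have e1 : V F t0 (V F (ψ a1) u) = V F (ψ a0) u := by
          rw [← e0, hT]
        rw [hP, map_add, e0, e1, add_comm]
      obtain ⟨π, h9 | h9⟩ := hgen g hg
      · exact ⟨π, by rw [h9]⟩
      · exact ⟨π, by rw [h9, V_mul, hPt]⟩
  -- the vector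
  obtain ⟨⟨u, huM⟩, hu0, heq⟩ := exists_eqMu h2 (x := ψ cx) (t := ψ ct) (by rw [← map_pow, cx_pow, map_one])
    (h32 _ cx_type) (P0.comp M.subtype) (fun u => p0 _ (hMU u.2)) (by rw [← map_mul, ct_sq, map_one])
    (fun u => pt _ (hMU u.2)) (by rw [← map_mul, ct_cx, map_mul, map_mul]) hM3
  have huU : u ∈ U := hMU huM
  change Mu F (P0 u) = Mu F (V F (ψ cx) (P0 u)) at heq
  have hu0' : u ≠ 0 := fun h => hu0 (Subtype.ext h)
  have hwUS : P0 u ∈ US ψ (0 : Fin 7) 1 := by
    intro a h6 h7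
    rw [hP, map_add, key u huU a a0 a0 (by rw [ha0, h6]), key u huU a a1 a1 (by rw [ha1, h7])]
  have w1 : V F (ψ cx) (P0 u) = W ψ 0 1 (P0 u) 1 2 := W_eq hwUS cx0 cx1
  have w2 : V F (ψ cx) (V F (ψ cx) (P0 u)) = W ψ 0 1 (P0 u) 2 0 := by
    rw [← V_mul, ← map_mul]
    refine W_eq hwUS ?_ ?_
    · rw [mul_ap, cx0, cx1]
    · rw [mul_ap, cx1, cx2]
  have w0 : W ψ 0 1 (P0 u) 0 1 = P0 u := W_self hwUS
  have hc : Nat.card ↥H ≤ 5040 := by
    have h := hM.card
    rw [if_neg (by norm_num)] at h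
    exact h
  have hq := two_le_card (F := F)
  refine final h2 le_rfl hM hψ h01 ?_ ?_ hwUS (q := 2) h02 h12 ?_ (fun h => hu0' (hne u huU h)) (hMH u huM) ?_
  · calc 4 * Nat.card ↥H ≤ 4 * 5040 := Nat.mul_le_mul_left _ hc
      _ < 2 ^ 76 := by norm_num
      _ ≤ Nat.card F ^ 76 := Nat.pow_le_pow_left hq _
  · intro S hS hS0 hs
    refine ts hM.coatom ?_ hS hS0 hs
    calc Nat.card ↥H ≤ 5040 := hc
      _ < 2 ^ 27 := by norm_num
      _ ≤ Nat.card F ^ 27 := Nat.pow_le_pow_left hq _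
  · rw [w0, ← w1, ← w2]
    exact p0 u huU
  · rw [w0, ← w1]
    exact heq

end main

end Cfsg.Agent.R2.T1.N7T
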